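import Groth.Agent.CohSite.K297.LeraySS
import Groth.Agent.LocCohZ.K288.ZqHom
import Groth.Agent.S6036
import Groth.Agent.CohtopA.PushExact
import Groth.Agent.CohtopA.PushClosed

/-!
# Spectral sequences of cohomology with supports

* `sectIso`: `Γ(X, Γ_Z F) ≅ Hom(ℤ_X/ℤ_U, F)`, naturally.
* `injective_sectSupp`: `Γ_Z` preserves injectives.
* `pushIso`: `Hom(ℤ_Y/ℤ_V, f_* F) ≅ Hom(ℤ_X/ℤ_{f⁻¹V}, F)`, naturally.
-/

set_option autoImplicit false
universe v u

open CategoryTheory CategoryTheory.Limits CategoryTheory.Abelian Opposite TopologicalSpace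

namespace K297.LocSS

open K297.RDHom Groth.Agent.CohtopB.TopPull Groth.Agent.CohtopB.TopStalk

section general

variable {D : Type*} [Category* D] {A B C : D ⥤ AddCommGrpCat.{v}}

/-- Two subfunctors of a functor with the same image are isomorphic. -/
noncomputable def isoOfRange (α : A ⟶ C) (β : B ⟶ C) (hα : ∀ X, Function.Injective (α.app X).hom)
    (hβ : ∀ X, Function.Injective (β.app X).hom)
    (h : ∀ X, (α.app X).hom.range = (β.app X).hom.range) : A ≅ B :=
  NatIso.ofComponents (fun X => (((AddMonoidHom.ofInjective (hα X)).trans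
      (AddEquiv.addSubgroupCongr (h X))).trans (AddMonoidHom.ofInjective (hβ X)).symm).toAddCommGrpIso)
    (fun {X Y} f => by
      have key : ∀ (X : D) (a : A.obj X), (β.app X).hom ((((AddMonoidHom.ofInjective (hα X)).trans
          (AddEquiv.addSubgroupCongr (h X))).trans (AddMonoidHom.ofInjective (hβ X)).symm) a) =
          (α.app X).hom a := by
        intro X a
        have h1 : (β.app X).hom ((AddMonoidHom.ofInjective (hβ X)).symm
            (AddEquiv.addSubgroupCongr (h X) (AddMonoidHom.ofInjective (hα X) a))) =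
            ((AddMonoidHom.ofInjective (hβ X)) ((AddMonoidHom.ofInjective (hβ X)).symm
              (AddEquiv.addSubgroupCongr (h X) (AddMonoidHom.ofInjective (hα X) a)))).1 := rfl
        refine h1.trans ?_
        rw [AddEquiv.apply_symm_apply]
        rfl
      ext a
      apply hβ Y
      refine (key Y _).trans ?_
      have h2 := ConcreteCategory.congr_hom (α.naturality f) a
      have h3 := ConcreteCategory.congr_hom (β.naturality f) ((((AddMonoidHom.ofInjective (hα X)).trans
          (AddEquiv.addSubgroupCongr (h X))).trans (AddMonoidHom.ofInjective (hβ X)).symm) a)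
      refine h2.trans ?_
      refine Eq.trans ?_ h3.symm
      exact congrArg (C.map f).hom (key X a).symm)

end general

variable {X Y : TopCat.{u}}

/-- Evaluation of maps out of `ℤ_V/ℤ_W`, as a natural transformation. -/
noncomputable def evNat {W V : Opens X} (h : W ≤ V) :
    homF (LocCohZ.zq h) ⟶ secF (Opens.grothendieckTopology X) V where
  app F := AddCommGrpCat.ofHom (K288.ZqHom.ev F h)
  naturality F G φ := by
    ext ψ
    exact K288.ZqHom.ev_comp φ h ψ

theorem range_ev (F : CohTop.Ab X) {W V : Opens X} (h : W ≤ V) (s : F.obj.obj (op V)) :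
    s ∈ (K288.ZqHom.ev F h).range ↔ (F.obj.map (homOfLE h).op).hom s = 0 := by
  constructor
  · rintro ⟨φ, rfl⟩
    exact K288.ZqHom.res_ev F h φ
  · intro hs
    obtain ⟨φ, hφ⟩ := K288.ZqHom.exists_ev F h s hs
    exact ⟨φ, hφ⟩

section sect

variable (U : Opens X)

theorem evalGen_comp {F G : CohTop.Ab X} (f : F ⟶ G) (V : Opens X)
    (φ : CohCx.freeSheaf (Opens.grothendieckTopology X) V ⟶ F) :
    CohFree.evalGen (Opens.grothendieckTopology X) V G (φ ≫ f) =
      (f.hom.app (op V)).hom (CohFree.evalGen (Opens.grothendieckTopology X) V F φ) := rfl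

theorem mono_sections_injective {F G : CohTop.Ab X} (f : F ⟶ G) [Mono f] (V : Opens X) :
    Function.Injective (f.hom.app (op V)).hom := by
  intro s t h
  have h1 : CohFree.ofSect (Opens.grothendieckTopology X) V F s ≫ f =
      CohFree.ofSect (Opens.grothendieckTopology X) V F t ≫ f := by
    apply (CohFree.homEquivSect (Opens.grothendieckTopology X) V G).injective
    rw [CohFree.homEquivSect_apply, CohFree.homEquivSect_apply, evalGen_comp, evalGen_comp,
      CohFree.evalGen_ofSect, CohFree.evalGen_ofSect]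
    exact h
  have h2 := (cancel_mono f).1 h1
  rw [← CohFree.evalGen_ofSect (Opens.grothendieckTopology X) V F s, h2, CohFree.evalGen_ofSect]

theorem exists_kernel_section {F G : CohTop.Ab X} (f : F ⟶ G) (V : Opens X) (s : F.obj.obj (op V))
    (hs : (f.hom.app (op V)).hom s = 0) :
    ∃ t : (kernel f).obj.obj (op V), ((kernel.ι f).hom.app (op V)).hom t = s := by
  have h1 : CohFree.ofSect (Opens.grothendieckTopology X) V F s ≫ f = 0 := by
    apply (CohFree.homEquivSect (Opens.grothendieckTopology X) V G).injective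
    rw [map_zero, CohFree.homEquivSect_apply, evalGen_comp, CohFree.evalGen_ofSect]
    exact hs
  refine ⟨CohFree.evalGen (Opens.grothendieckTopology X) V _ (kernel.lift f _ h1), ?_⟩
  change CohFree.evalGen (Opens.grothendieckTopology X) V F (kernel.lift f _ h1 ≫ kernel.ι f) = s
  rw [kernel.lift_ι, CohFree.evalGen_ofSect]

/-- The inclusion `Γ_Z F ⟶ F`. -/
noncomputable abbrev ι (F : CohTop.Ab X) : (LocCohZ.sectSuppF U).obj F ⟶ F := Groth.Agent.S6036.ι U F

instance (F : CohTop.Ab X) : Mono (ι U F) :=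
  equalizer.ι_mono (f := (adj (CohCx.incl U)).unit.app F) (g := 0)

/-- Sections of `Γ_Z F` vanish on opens in `U`. -/
theorem section_eq_zero (F : CohTop.Ab X) (V : Opens X) (hV : V ≤ U)
    (t : ((LocCohZ.sectSuppF U).obj F).obj.obj (op V)) : t = 0 := by
  refine TopCat.Presheaf.section_ext (F := ((LocCohZ.sectSuppF U).obj F)) V t 0 (fun x hx => ?_)
  have h := Groth.Agent.S0925.isZero_stalk_sectSupp U F x (hV hx)
  have := AddCommGrpCat.subsingleton_of_isZero h
  exact Subsingleton.elim (α := (stalkF x).obj (CohCx.sectSupp U F)) _ _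

theorem exists_sect (F : CohTop.Ab X) (V : Opens X) (s : F.obj.obj (op V))
    (hs : (F.obj.map (homOfLE (inf_le_left : V ⊓ U ≤ V)).op).hom s = 0) :
    ∃ t : ((LocCohZ.sectSuppF U).obj F).obj.obj (op V), ((ι U F).hom.app (op V)).hom t = s := by
  refine exists_kernel_section _ V s ?_
  have h1 := ConcreteCategory.congr_hom (((adj (CohCx.incl U)).unit.app F).hom.naturality
    (homOfLE (inf_le_left : V ⊓ U ≤ V)).op) s
  have h2 : (((adj (CohCx.incl U)).unit.app F).hom.app (op (V ⊓ U))).hom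
      ((F.obj.map (homOfLE (inf_le_left : V ⊓ U ≤ V)).op).hom s) = 0 := by rw [hs, map_zero]
  have h3 := h1.symm.trans h2
  have e : (Opens.map (CohCx.incl U)).obj (V ⊓ U) = (Opens.map (CohCx.incl U)).obj V := by
    ext x
    exact ⟨fun hx => hx.1, fun hx => ⟨hx, x.2⟩⟩
  have h4 : Function.Injective ((((CohTop.pull (CohCx.incl U)).obj F).obj.map
      ((Opens.map (CohCx.incl U)).map (homOfLE (inf_le_left : V ⊓ U ≤ V))).op).hom) := by
    have h5 : IsIso ((Opens.map (CohCx.incl U)).map (homOfLE (inf_le_left : V ⊓ U ≤ V))) :=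
      ⟨⟨homOfLE e.ge, Subsingleton.elim _ _, Subsingleton.elim _ _⟩⟩
    have h6 : IsIso (((CohTop.pull (CohCx.incl U)).obj F).obj.map
      ((Opens.map (CohCx.incl U)).map (homOfLE (inf_le_left : V ⊓ U ≤ V))).op) := inferInstance
    exact (ConcreteCategory.bijective_of_isIso (((CohTop.pull (CohCx.incl U)).obj F).obj.map
      ((Opens.map (CohCx.incl U)).map (homOfLE (inf_le_left : V ⊓ U ≤ V))).op)).1
  exact h4 (h3.trans (map_zero _).symm)

/-- The inclusion `Γ(X, Γ_Z -) ⟶ Γ(X, -)`. -/
noncomputable def sectNat : LocCohZ.sectSuppF U ⋙ secF (Opens.grothendieckTopology X) ⊤ ⟶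
    secF (Opens.grothendieckTopology X) ⊤ where
  app F := (ι U F).hom.app (op ⊤)
  naturality F G φ := by
    have h := congrArg (fun t => t.hom.app (op ⊤)) (Groth.Agent.S6036.map_ι U φ)
    exact h

/-- `Γ(X, Γ_Z F) ≅ Hom(ℤ_X/ℤ_U, F)`. -/
noncomputable def sectIso : LocCohZ.sectSuppF U ⋙ secF (Opens.grothendieckTopology X) ⊤ ≅
    homF (LocCohZ.zq (le_top : U ≤ ⊤)) :=
  isoOfRange (sectNat U) (evNat le_top)
    (fun F => mono_sections_injective (ι U F) ⊤)
    (fun F => K288.ZqHom.ev_injective F _)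
    (fun F => by
      ext s
      refine Iff.trans ?_ (range_ev F (le_top : U ≤ ⊤) s).symm
      constructor
      · rintro ⟨t, rfl⟩
        have h1 := ConcreteCategory.congr_hom ((ι U F).hom.naturality (homOfLE (le_top : U ≤ ⊤)).op) t
        refine h1.symm.trans ?_
        have h2 := section_eq_zero U F U le_rfl (((LocCohZ.sectSuppF U).obj F).obj.map (homOfLE (le_top : U ≤ ⊤)).op t)
        refine (congrArg ((ι U F).hom.app (op U)).hom h2).trans (map_zero _)
      · intro hs
        refine exists_sect U F ⊤ s ?_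
        have h1 : F.obj.map (homOfLE (inf_le_left : ⊤ ⊓ U ≤ ⊤)).op =
            F.obj.map (homOfLE (le_top : U ≤ ⊤)).op ≫ F.obj.map (homOfLE (inf_le_right : ⊤ ⊓ U ≤ U)).op := by
          rw [← F.obj.map_comp]
          rfl
        refine (ConcreteCategory.congr_hom h1 s).trans ?_
        change (F.obj.map (homOfLE (inf_le_right : ⊤ ⊓ U ≤ U)).op).hom ((F.obj.map (homOfLE (le_top : U ≤ ⊤)).op).hom s) = 0
        rw [hs, map_zero])

theorem injective_sectSupp (Q : CohTop.Ab X) (hQ : Injective Q) : Injective ((LocCohZ.sectSuppF U).obj Q) := by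
  have : PreservesFiniteColimits (CohTop.push (CohCx.inclCompl U)) :=
    Groth.Agent.CohtopA.PushClosed.preservesFiniteColimits_push_of_isClosedEmbedding _
      (Groth.Agent.S0925.isClosedEmbedding_inclCompl U)
  have : PreservesLimitsOfSize.{0, 0} (CohTop.push (CohCx.inclCompl U)) :=
    (TopCat.Sheaf.pullbackPushforwardAdjunction AddCommGrpCat.{u} (CohCx.inclCompl U)).rightAdjoint_preservesLimits
  have : PreservesFiniteLimits (CohTop.push (CohCx.inclCompl U)) :=
    PreservesLimitsOfSize.preservesFiniteLimits _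
  have : (CohTop.push (CohCx.inclCompl U)).PreservesMonomorphisms := inferInstance
  have h1 : Injective ((LocCohZ.sectSuppF U ⋙ CohTop.pull (CohCx.inclCompl U)).obj Q) :=
    Injective.injective_of_adjoint (Groth.Agent.S6036.adjZ U) Q
  have h2 : Injective ((CohTop.push (CohCx.inclCompl U)).obj
      ((LocCohZ.sectSuppF U ⋙ CohTop.pull (CohCx.inclCompl U)).obj Q)) := injective_push _ _
  have h3 := Groth.Agent.S6036.isIso_η U Q
  exact Injective.of_iso (asIso ((adj (CohCx.inclCompl U)).unit.app ((LocCohZ.sectSuppF U).obj Q))).symm h2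

end sect

section push

variable (f : X ⟶ Y) (V : Opens Y)

/-- Sections over the preimage. -/
noncomputable def pushNat : CohTop.push f ⋙ homF (LocCohZ.zq (le_top : V ≤ ⊤)) ⟶
    secF (Opens.grothendieckTopology X) ⊤ where
  app F := AddCommGrpCat.ofHom (K288.ZqHom.ev ((CohTop.push f).obj F) (le_top : V ≤ ⊤))
  naturality F G φ := by
    ext ψ
    exact K288.ZqHom.ev_comp ((CohTop.push f).map φ) (le_top : V ≤ ⊤) ψ

/-- `Hom(ℤ_Y/ℤ_V, f_* F) ≅ Hom(ℤ_X/ℤ_{f⁻¹V}, F)`. -/
noncomputable def pushIso : CohTop.push f ⋙ homF (LocCohZ.zq (le_top : V ≤ ⊤)) ≅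
    homF (LocCohZ.zq (le_top : (Opens.map f).obj V ≤ ⊤)) :=
  isoOfRange (pushNat f V) (evNat le_top)
    (fun F => K288.ZqHom.ev_injective _ _)
    (fun F => K288.ZqHom.ev_injective _ _)
    (fun F => by
      ext s
      refine Iff.trans ?_ (range_ev F (le_top : (Opens.map f).obj V ≤ ⊤) s).symm
      exact range_ev ((CohTop.push f).obj F) (le_top : V ≤ ⊤) s)

end push

/-- The spectral sequence `H^p(X, ℋ^q_Z F) ⇒ H^n_Z(X, F)`. -/
theorem exists_HU_HZsh (F : CohTop.Ab X) (U : Opens X) :
    ∃ (E : E₂CohomologicalSpectralSequence AddCommGrpCat.{u})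
      (a : SpSeq.Abutment E (fun n : ℤ =>
        if 0 ≤ n then AddCommGrpCat.of (LocCohZ.HZc F n.toNat U) else AddCommGrpCat.of PUnit.{u + 1})),
      (∀ n : ℤ, a.IsFinite n) ∧ SpSeq.IsBounded E ∧
      ∀ p q : ℤ, Nonempty ((E.page 2 le_rfl).X (p, q) ≅
        (if 0 ≤ p ∧ 0 ≤ q then AddCommGrpCat.of (CohTop.HU ((LocCohZ.HZsh U q.toNat).obj F) p.toNat ⊤)
          else AddCommGrpCat.of PUnit.{u + 1})) := by
  refine K297.LeraySS.exists_ss (LocCohZ.sectSuppF U) (secF (Opens.grothendieckTopology X) ⊤)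
    (fun Q hQ q hq => ?_) F
    (fun n => AddCommGrpCat.of (LocCohZ.HZc F n U)) (fun n => ?_)
    (fun p q => AddCommGrpCat.of (CohTop.HU ((LocCohZ.HZsh U q).obj F) p ⊤)) (fun p q => ?_)
    _ _ K297.LeraySS.isZero_punit K297.LeraySS.isZero_punit
  · obtain ⟨q, rfl⟩ : ∃ q', q = q' + 1 := ⟨q - 1, by omega⟩
    have := injective_sectSupp U Q hQ
    exact Functor.isZero_rightDerived_obj_injective_succ _ _ _
  · exact ⟨(Groth.Agent.CohtopA.RDComp.rightDerivedCongr (sectIso U) n).app F ≪≫ rdHomIso _ F n⟩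
  · exact ⟨rdSecIso (Opens.grothendieckTopology X) ⊤ _ p⟩

/-- The spectral sequence `H^p_{Y'}(Y, R^q f_* F) ⇒ H^n_{f⁻¹Y'}(X, F)`. -/
theorem exists_HZc_Rpush (f : X ⟶ Y) (V : Opens Y) (F : CohTop.Ab X) :
    ∃ (E : E₂CohomologicalSpectralSequence AddCommGrpCat.{u})
      (a : SpSeq.Abutment E (fun n : ℤ =>
        if 0 ≤ n then AddCommGrpCat.of (LocCohZ.HZc F n.toNat ((Opens.map f).obj V))
          else AddCommGrpCat.of PUnit.{u + 1})),
      (∀ n : ℤ, a.IsFinite n) ∧ SpSeq.IsBounded E ∧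
      ∀ p q : ℤ, Nonempty ((E.page 2 le_rfl).X (p, q) ≅
        (if 0 ≤ p ∧ 0 ≤ q then AddCommGrpCat.of (LocCohZ.HZc ((CohTop.Rpush f q.toNat).obj F) p.toNat V)
          else AddCommGrpCat.of PUnit.{u + 1})) := by
  refine K297.LeraySS.exists_ss (CohTop.push f) (homF (LocCohZ.zq (le_top : V ≤ ⊤)))
    (fun Q hQ q hq => ?_) F
    (fun n => AddCommGrpCat.of (LocCohZ.HZc F n ((Opens.map f).obj V))) (fun n => ?_)
    (fun p q => AddCommGrpCat.of (LocCohZ.HZc ((CohTop.Rpush f q).obj F) p V)) (fun p q => ?_)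
    _ _ K297.LeraySS.isZero_punit K297.LeraySS.isZero_punit
  · obtain ⟨q, rfl⟩ : ∃ q', q = q' + 1 := ⟨q - 1, by omega⟩
    have := injective_push f Q
    exact Functor.isZero_rightDerived_obj_injective_succ _ _ _
  · exact ⟨(Groth.Agent.CohtopA.RDComp.rightDerivedCongr (pushIso f V) n).app F ≪≫ rdHomIso _ F n⟩
  · exact ⟨rdHomIso _ _ p⟩

end K297.LocSS
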